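import Mathlib
import Cfsg.Agent.H779.DP.ULev
import Cfsg.Agent.H514.DP.Cyc_m3
import Cfsg.Agent.H152.SUClass
import Cfsg.Agent.H514.DP.SLRes
import Cfsg.Agent.TitsThree.UFrame
import Cfsg.Agent.S2334
import Cfsg.Agent.S2335
import Cfsg.Prelude.Def_LieTypeChar
import Cfsg.Agent.Prune
set_option linter.all false
prune_inst 0x7fffadfdfdbfe9dfffff7e7ff6d8edfe3b835fffa4dffd4bffe86bbf3fffb39209c5a38d09e0b0fe0ef6427418a87843f9ffdeffea6bfc7ffffdfff45ffbee5ff5f7bd0851d78c340fbc2fff83f07f8e7f3fffffffffffffffffffffffffffbeffbfffffffff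
open scoped Cfsg.Agent.FastGrp

-- part: H779/DP/UWin
section
/-!
# Elements of `SU_n` with a large fixed space, windows (S2454, row PSU)

* `pe_of_fix` : `g` fixes an orthonormal family of `n - m` vectors, `PW p c (SU m F q)` : `PE p c g`;
* `pe_lev_emb` : the image of a block of size `w`, `2 w ≤ m`;
* `pe_lev_comp` : the image of a companion matrix.
-/

set_option autoImplicit false
set_option linter.unusedSectionVars false

namespace Cfsg.Agent.H779.DP

open Cfsg Module Matrix Cfsg.Agent.LieClassical.HermBasic Cfsg.Agent.LieClassical.HermSiegel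
open Cfsg.Agent.ClassicalGeometry.HermOrtho Cfsg.Agent.GpUn Cfsg.Agent.H514.DP
open Cfsg.Agent.KFacts.Unit (Frm)

variable {F : Type*} [Field F] [Fintype F] {q n d : ℕ} {e f : Fin d → (Fin n → F)}

/-- the span of an orthonormal family -/
theorem nd_span (hF : Fintype.card F = q ^ 2) {k : ℕ} {b : Fin k → (Fin n → F)}
    (hb : ∀ i j, hermForm n F q (b i) (b j) = if i = j then 1 else 0) :
    ND q (Submodule.span F (Set.range b)) ∧ finrank F (Submodule.span F (Set.range b)) = k := by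
  refine ⟨fun u hu h => ?_, ?_⟩
  · rw [Submodule.mem_span_range_iff_exists_fun] at hu
    obtain ⟨c, rfl⟩ := hu
    have hc : c = 0 := by
      funext j
      have := h (b j) (Submodule.subset_span ⟨j, rfl⟩)
      rwa [herm_sum_smul_left hb] at this
    rw [hc]
    simp only [_root_.Pi.zero_apply, _root_.zero_smul, _root_.Finset.sum_const_zero]
  · rw [finrank_span_eq_card (linearIndependent_of_orthonormal hb), Fintype.card_fin]

/-- **Elements with a large fixed space.** -/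
theorem pe_of_fix (hF : Fintype.card F = q ^ 2) {p c k m : ℕ} (hPW : PW p c (SU m F q)) (hk : k + m = n)
    {b : Fin k → (Fin n → F)} (hb : ∀ i j, hermForm n F q (b i) (b j) = if i = j then 1 else 0)
    {g : SU n F q} (hg : ∀ i, act g (b i) = b i) : PE p c g := by
  obtain ⟨hnd, hfr⟩ := nd_span hF hb
  obtain ⟨W, hW⟩ : ∃ W, W = Submodule.span F (Set.range b) := ⟨_, rfl⟩
  rw [← hW] at hnd hfr
  have hWg : W ≤ fx g := by
    rw [hW, Submodule.span_le]
    rintro _ ⟨i, rfl⟩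
    exact hg i
  have h1 := finrank_hermPerp_of_nondeg hF W hnd
  obtain ⟨ε⟩ := exists_equiv hF (hermPerp q (W : Set (Fin n → F))) (hermPerp_nondeg hF W hnd) (m := m) (by omega)
  have hfix : g ∈ fixG q (hermPerp q ((hermPerp q (W : Set (Fin n → F)) : Submodule F (Fin n → F)) : Set (Fin n → F))) := by
    intro w hw
    obtain ⟨w1, hw1, u, hu, rfl⟩ := exists_add_perp hF W hnd w
    have hu0 : u = 0 := by
      apply hermPerp_nondeg hF W hnd u hu
      intro v hv
      have h2 := hw v hv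
      rw [herm_add_left, herm_eq_zero_swap hF (hv w1 hw1), zero_add] at h2
      exact h2
    rw [hu0, add_zero]
    exact hWg hw1
  have h2 := (hPW (ε.symm ⟨g, hfix⟩)).map ((fixG q _).subtype.comp ε.toMonoidHom)
  have h3 : ((fixG q (hermPerp q ((hermPerp q (W : Set (Fin n → F)) : Submodule F (Fin n → F)) : Set (Fin n → F)))).subtype.comp
      ε.toMonoidHom) (ε.symm ⟨g, hfix⟩) = g := by
    show ((ε (ε.symm ⟨g, hfix⟩)) : SU n F q) = g
    rw [MulEquiv.apply_symm_apply]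
  rwa [h3] at h2

/-- the frame of a window -/
theorem frm_comp {w : ℕ} (E : Frm q e f) (s : Fin w ↪ Fin d) : Frm q (e ∘ s) (f ∘ s) :=
  ⟨fun i j => E.ee _ _, fun i j => E.ff _ _, fun i j => by
    rw [Function.comp_apply, Function.comp_apply, E.ef]
    simp only [s.injective.eq_iff]⟩

theorem embM_mulVec_of_zero {w : ℕ} (s : Fin w ↪ Fin d) (N : Matrix (Fin w) (Fin w) F) {c : Fin d → F}
    (hc : ∀ i, c (s i) = 0) : embM s N *ᵥ c = c := by
  funext x
  rw [mulVec, dotProduct, Finset.sum_eq_single x]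
  · by_cases hx : x ∈ Set.range s
    · obtain ⟨i, rfl⟩ := hx
      rw [hc, mul_zero]
    · rw [embM_left s N hx, one_apply_eq, one_mul]
  · intro y _ hy
    by_cases hy' : y ∈ Set.range s
    · obtain ⟨i, rfl⟩ := hy'
      rw [hc, mul_zero]
    · rw [embM_right s N x hy', one_apply_ne (Ne.symm hy), zero_mul]
  · intro h; exact absurd (Finset.mem_univ x) h

theorem dual_embM_mulVec_of_zero (hF : Fintype.card F = q ^ 2) {w : ℕ} (s : Fin w ↪ Fin d)
    (N : _root_.Matrix.SpecialLinearGroup (Fin w) F) {c : Fin d → F} (hc : ∀ i, c (s i) = 0) : dual hF (emb s N) *ᵥ c = c := by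
  have h1 : ((emb s N)⁻¹).1 = embM s (N⁻¹).1 := by rw [← map_inv]; rfl
  have h0 : ∀ x y : Fin d, dual hF (emb s N) x y = LieClassical.HermBasic.conj hF (embM s (N⁻¹).1 y x) := by
    intro x y
    rw [dual, h1]
    rfl
  funext x
  rw [mulVec, dotProduct, Finset.sum_eq_single x]
  · by_cases hx : x ∈ Set.range s
    · obtain ⟨i, rfl⟩ := hx
      rw [hc, mul_zero]
    · rw [h0, embM_left s _ hx, one_apply_eq, map_one, one_mul]
  · intro y _ hy
    by_cases hy' : y ∈ Set.range s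
    · obtain ⟨i, rfl⟩ := hy'
      rw [hc, mul_zero]
    · rw [h0, embM_left s _ hy', one_apply_ne hy, map_zero, zero_mul]
  · intro h; exact absurd (Finset.mem_univ x) h

/-- the image of a block is trivial on the orthogonal space of the window -/
theorem act_lev_emb (hF : Fintype.card F = q ^ 2) (E : Frm q e f) {w : ℕ} (s : Fin w ↪ Fin d)
    (N : _root_.Matrix.SpecialLinearGroup (Fin w) F) {v : Fin n → F} (hv : v ∈ Rp q (e ∘ s) (f ∘ s)) :
    act (lev hF E (emb s N)) v = v := by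
  rw [mem_Rp] at hv
  rw [act_lev, sub_mulVec, sub_mulVec, one_mulVec, one_mulVec, dual_embM_mulVec_of_zero hF s N (fun i => congrFun hv.1 i),
    sub_self, cmb_zero, add_zero]
  show v + cmb e (embM s N.1 *ᵥ co q f v - co q f v) = v
  rw [embM_mulVec_of_zero s N.1 (fun i => congrFun hv.2 i), sub_self, cmb_zero, add_zero]

/-- **Blocks.** -/
theorem pe_lev_emb (hF : Fintype.card F = q ^ 2) (E : Frm q e f) {p c w m : ℕ} (hPW : PW p c (SU m F q))
    (hw : 2 * w ≤ m) (hm : m ≤ n) (s : Fin w ↪ Fin d) (N : _root_.Matrix.SpecialLinearGroup (Fin w) F) :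
    PE p c (lev hF E (emb s N)) := by
  have E' := frm_comp E s
  have h1 := finrank_Rp hF E'
  obtain ⟨k, hk⟩ : ∃ k, k + m = n := ⟨n - m, by omega⟩
  obtain ⟨b, hbW, hb⟩ := exists_orthonormal hF (Rp q (e ∘ s) (f ∘ s)) (nd_Rp hF E') rfl
  have hle : k ≤ finrank F (Rp q (e ∘ s) (f ∘ s)) := by omega
  refine pe_of_fix hF hPW hk (b := fun i => b (Fin.castLE hle i)) (fun i j => ?_) (fun i => ?_)
  · rw [hb]
    simp only [(Fin.castLE_injective hle).eq_iff]
  · exact act_lev_emb hF E s N (hbW _)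

/-- **Companion matrices.** -/
theorem pe_lev_comp (hF : Fintype.card F = q ^ 2) (E : Frm q e f) {p c m : ℕ} (hPW : PW p c (SU m F q))
    (hd : 1 ≤ d) (hdm : d + 2 ≤ m) (hm : m ≤ n) (cf : ℕ → F) (h : (_root_.Cfsg.Agent.H514.DP.comp d cf).det = 1) :
    PE p (c + c) (lev hF E (compSL d cf h)) := by
  obtain ⟨a, b, rfl, ha, hb⟩ : ∃ a b, d = a + b + 1 ∧ 2 * (a + 1) ≤ m ∧ 2 * (b + 1) ≤ m :=
    ⟨d / 2, d - 1 - d / 2, by omega, by omega, by omega⟩
  obtain ⟨c', c'', h', h'', he⟩ := exists_comp_mul a b cf h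
  rw [he, map_mul]
  exact (pe_lev_emb hF E hPW ha hm _ _).mul (pe_lev_emb hF E hPW hb hm _ _)

end Cfsg.Agent.H779.DP
end

-- part: H779/DP/UGen
section
/-!
# Singer elements satisfy `Gen` (S2454, row PSU)

* `gen_sing` : `sing b z h` satisfies `Gen hF` if `z` has order greater than `|F| ^ (d - 1)`, `d ≥ 2`.
-/

set_option autoImplicit false
set_option linter.unusedSectionVars false

namespace Cfsg.Agent.H779.DP

open Cfsg Module Matrix Polynomial Cfsg.Agent.LieClassical.HermBasic Cfsg.Agent.H514.DP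

variable {F : Type*} [Field F] [Fintype F] {q d : ℕ}

theorem aeval_dual (hF : Fintype.card F = q ^ 2) (A : Matrix (Fin d) (Fin d) F) (p : F[X]) :
    aeval ((Aᵀ).map (LieClassical.HermBasic.conj hF)) p =
      ((aeval A (p.map (LieClassical.HermBasic.conj hF : F →+* F)))ᵀ).map (LieClassical.HermBasic.conj hF) := by
  induction p using Polynomial.induction_on' with
  | add p r hp hr =>
    rw [map_add, Polynomial.map_add, map_add, transpose_add, Matrix.map_add _ (map_add _), hp, hr]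
  | monomial k c =>
    rw [Polynomial.map_monomial, aeval_monomial, aeval_monomial, ← Algebra.smul_def, ← Algebra.smul_def,
      transpose_smul, transpose_pow]
    have h1 : ∀ B : Matrix (Fin d) (Fin d) F, (B ^ k).map (LieClassical.HermBasic.conj hF) =
        (B.map (LieClassical.HermBasic.conj hF)) ^ k := by
      intro B
      exact map_pow ((LieClassical.HermBasic.conj hF : F →+* F).mapMatrix) B k
    ext i j
    rw [Matrix.smul_apply, map_apply, Matrix.smul_apply, smul_eq_mul, smul_eq_mul, map_mul, ← map_apply (f := (LieClassical.HermBasic.conj hF : F → F)), h1]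
    congr 1
    exact (pow_q_pow_q hF c).symm

section

variable {K : Type*} [Field K] [Algebra F K] {z : K}

theorem det_left_ne_zero (b : Module.Basis (Fin d) F K) {w : K} (hw : w ≠ 0) : (Algebra.leftMulMatrix b w).det ≠ 0 := by
  have : Module.Finite F K := Module.Finite.of_basis b
  rw [← Algebra.norm_eq_matrix_det, Algebra.norm_ne_zero_iff]
  exact hw

theorem inv_sing (b : Module.Basis (Fin d) F K) (h : Algebra.norm F z = 1) (hz0 : z ≠ 0) :
    ((sing b z h)⁻¹).1 = Algebra.leftMulMatrix b z⁻¹ := by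
  have h1 : ((sing b z h)⁻¹).1 * Algebra.leftMulMatrix b z = 1 := congrArg Subtype.val (inv_mul_cancel (sing b z h))
  have h2 : Algebra.leftMulMatrix b z * Algebra.leftMulMatrix b z⁻¹ = 1 := by
    rw [← map_mul, mul_inv_cancel₀ hz0, map_one]
  calc ((sing b z h)⁻¹).1 = ((sing b z h)⁻¹).1 * (Algebra.leftMulMatrix b z * Algebra.leftMulMatrix b z⁻¹) := by
        rw [h2, mul_one]
    _ = _ := by rw [← mul_assoc, h1, one_mul]

theorem det_conj (hF : Fintype.card F = q ^ 2) (A : Matrix (Fin d) (Fin d) F) (hA : A.det ≠ 0) :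
    ((Aᵀ).map (LieClassical.HermBasic.conj hF)).det ≠ 0 := by
  have e3 : (Aᵀ).map (LieClassical.HermBasic.conj hF) = (LieClassical.HermBasic.conj hF : F →+* F).mapMatrix Aᵀ := rfl
  rw [e3, ← RingHom.map_det, det_transpose]
  exact (_root_.map_ne_zero _).2 hA

theorem gen_of_ne (hF : Fintype.card F = q ^ 2) (b : Module.Basis (Fin d) F K) (h : Algebra.norm F z = 1)
    (hz : Algebra.adjoin F {z} = ⊤) (hz0 : z ≠ 0) (hz1 : z ≠ 1)
    (hne : aeval z⁻¹ ((minpoly F z).map (LieClassical.HermBasic.conj hF : F →+* F)) ≠ 0) : Gen hF (sing b z h) := by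
  have hM : (sing b z h).1 = Algebra.leftMulMatrix b z := rfl
  have hN : dual hF (sing b z h) = ((Algebra.leftMulMatrix b z⁻¹)ᵀ).map (LieClassical.HermBasic.conj hF) := by
    rw [dual, inv_sing b h hz0]
  have h0 : aeval (sing b z h).1 (minpoly F z) = 0 := by
    rw [hM, Polynomial.aeval_algHom_apply, minpoly.aeval, map_zero]
  have hu : (aeval (dual hF (sing b z h)) (minpoly F z)).det ≠ 0 := by
    rw [hN, aeval_dual]
    apply det_conj
    rw [Polynomial.aeval_algHom_apply]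
    exact det_left_ne_zero b hne
  have hu' : IsUnit (aeval (dual hF (sing b z h)) (minpoly F z)) :=
    (Matrix.isUnit_iff_isUnit_det _).2 (isUnit_iff_ne_zero.2 hu)
  have hpoly : ∀ (A B T : Matrix (Fin d) (Fin d) F), T * A = B * T → ∀ p : F[X], T * aeval A p = aeval B p * T := by
    intro A B T hT p
    have hk : ∀ k : ℕ, T * A ^ k = B ^ k * T := by
      intro k
      induction k with
      | zero => rw [pow_zero, pow_zero, mul_one, one_mul]
      | succ k ih => rw [pow_succ, pow_succ, ← mul_assoc, ih, mul_assoc, hT, mul_assoc]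
    induction p using Polynomial.induction_on' with
    | add p r hp hr => rw [map_add, map_add, mul_add, add_mul, hp, hr]
    | monomial k c =>
      rw [aeval_monomial, aeval_monomial, ← Algebra.smul_def, ← Algebra.smul_def, mul_smul_comm, smul_mul_assoc, hk]
  constructor
  · intro T hT
    have h1 := hpoly _ _ _ hT (minpoly F z)
    rw [h0, mul_zero] at h1
    exact (hu'.mul_right_eq_zero).1 h1.symm
  · intro T hT
    have h1 := hpoly _ _ _ hT (minpoly F z)
    rw [h0, zero_mul] at h1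
    exact (hu'.mul_left_eq_zero).1 h1
  · intro c hc
    have h1 : c ᵥ* (Algebra.leftMulMatrix b (z - 1)) = 0 := by
      rw [map_sub, map_one, vecMul_sub, vecMul_one, ← hM, hc, sub_self]
    exact Matrix.eq_zero_of_vecMul_eq_zero (det_left_ne_zero b (sub_ne_zero.2 hz1)) h1
  · intro c hc
    have h2 : dual hF (sing b z h) - 1 = ((Algebra.leftMulMatrix b (z⁻¹ - 1))ᵀ).map (LieClassical.HermBasic.conj hF) := by
      rw [hN, map_sub, map_one, transpose_sub, transpose_one, Matrix.map_sub _ (map_sub _),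
        Matrix.map_one _ (map_zero _) (map_one _)]
    have h1 : c ᵥ* (dual hF (sing b z h) - 1) = 0 := by
      rw [vecMul_sub, vecMul_one, hc, sub_self]
    rw [h2] at h1
    refine Matrix.eq_zero_of_vecMul_eq_zero (det_conj hF _ (det_left_ne_zero b ?_)) h1
    rw [sub_ne_zero]
    intro h3
    exact hz1 (inv_eq_one.1 h3)
  · intro A c hA hc hAc
    obtain ⟨w, rfl⟩ := exists_of_commute b hz hA
    obtain ⟨u, hu⟩ : ∃ u : K, c = b.repr u := ⟨b.equivFun.symm c, by
      rw [← Module.Basis.equivFun_apply]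
      exact (LinearEquiv.apply_symm_apply _ _).symm⟩
    have hu0 : u ≠ 0 := by
      rintro rfl
      apply hc
      rw [hu, map_zero]
      rfl
    rw [hu, Algebra.leftMulMatrix_mulVec_repr] at hAc
    have h1 : w * u = u := b.repr.injective (DFunLike.coe_injective hAc)
    have h2 : w = 1 := mul_right_cancel₀ hu0 (by rw [h1, one_mul])
    rw [h2, map_one]

theorem aeval_ne_zero (hF : Fintype.card F = q ^ 2) (b : Module.Basis (Fin d) F K) (hd : 2 ≤ d) (hz0 : z ≠ 0)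
    (ho : Nat.card F ^ (d - 1) < orderOf z) :
    aeval z⁻¹ ((minpoly F z).map (LieClassical.HermBasic.conj hF : F →+* F)) ≠ 0 := by
  have hfin := finite_ext b
  have := Fintype.ofFinite K
  have : Module.Finite F K := Module.Finite.of_basis b
  have hq := two_le hF
  have hcF : Nat.card F = q ^ 2 := by rw [Nat.card_eq_fintype_card, hF]
  have hcK : Fintype.card K = q ^ (2 * d) := by
    rw [← Nat.card_eq_fintype_card, card_ext b, hcF, ← pow_mul]
  have hfd : Module.finrank F K = d := by rw [Module.finrank_eq_card_basis b, Fintype.card_fin]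
  intro h0
  -- the power map
  obtain ⟨r, k, hr, hch, hqk, -⟩ := exists_prime_pow hF
  have hchK : CharP K r := charP_of_injective_algebraMap (algebraMap F K).injective r
  have : Fact r.Prime := ⟨hr⟩
  let φ : K →+* K := iterateFrobenius K r k
  have hφ : ∀ x, φ x = x ^ q := fun x => by rw [iterateFrobenius_def, hqk]
  have h5 : (φ.comp (algebraMap F K)).comp (LieClassical.HermBasic.conj hF : F →+* F) = algebraMap F K := by
    refine RingHom.ext fun c => ?_
    show φ (algebraMap F K (LieClassical.HermBasic.conj hF c)) = algebraMap F K c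
    rw [hφ, conj_apply, ← map_pow, pow_q_pow_q hF]
  have h1 : aeval ((z⁻¹) ^ q) (minpoly F z) = 0 := by
    have h2 := congrArg φ h0
    rw [map_zero, aeval_def, Polynomial.hom_eval₂, Polynomial.eval₂_map, hφ, h5] at h2
    exact h2
  have hint : IsIntegral F z := Algebra.IsIntegral.isIntegral z
  have h2 : IsConjRoot F z ((z⁻¹) ^ q) := (isConjRoot_iff_aeval_eq_zero hint).2 h1
  obtain ⟨τ, hτ⟩ := (isConjRoot_iff_exists_algEquiv).1 h2.symm
  obtain ⟨i, hi⟩ := (FiniteField.bijective_frobeniusAlgHom_pow F K).2 (τ : K →ₐ[F] K)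
  have hi2 : τ z = z ^ (q ^ 2) ^ (i : ℕ) := by
    have h3 := DFunLike.congr_fun hi z
    simp only at h3
    rw [AlgHom.coe_pow, FiniteField.coe_frobeniusAlgHom, pow_iterate, hF] at h3
    exact h3.symm
  have hid : (i : ℕ) < d := lt_of_lt_of_eq i.2 hfd
  have hz : z ^ ((q ^ 2) ^ (i : ℕ) + q) = 1 := by
    rw [pow_add, ← hi2, hτ, ← mul_pow, inv_mul_cancel₀ hz0, one_pow]
  have hQ : q ^ 2 ≤ Nat.card F ^ (d - 1) := by
    rw [hcF]
    exact Nat.le_self_pow (by omega) _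
  rcases Nat.eq_zero_or_pos (i : ℕ) with hi0 | hi0
  · rw [hi0, pow_zero] at hz
    have h6 := orderOf_le_of_pow_eq_one (by omega) hz
    have h7 : 1 + q ≤ q ^ 2 := by nlinarith only [hq]
    omega
  · obtain ⟨m, hm⟩ : ∃ m, (i : ℕ) = m + 1 := ⟨i - 1, by omega⟩
    have h6 : (q ^ 2) ^ (i : ℕ) + q = (q ^ (2 * m + 1) + 1) * q := by
      rw [hm, ← pow_mul]
      ring
    rw [h6, pow_mul] at hz
    have h7 : z ^ (q ^ (2 * m + 1) + 1) = 1 := by
      have h8 : (z ^ (q ^ (2 * m + 1) + 1)) ^ Fintype.card K = z ^ (q ^ (2 * m + 1) + 1) := FiniteField.pow_card _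
      obtain ⟨l, hl⟩ : ∃ l, 2 * d = l + 1 := ⟨2 * d - 1, by omega⟩
      have h9 : q ^ (l + 1) = q * q ^ l := pow_succ' q l
      rw [hcK, hl, h9, pow_mul, hz, one_pow] at h8
      exact h8.symm
    have h8 := orderOf_le_of_pow_eq_one (by omega) h7
    have h9 : q ^ (2 * m + 1) + 1 ≤ Nat.card F ^ (d - 1) := by
      rw [hcF, ← pow_mul]
      have h10 : q ^ (2 * m + 1) * 2 ≤ q ^ (2 * m + 1) * q := Nat.mul_le_mul_left _ hq
      have h11 : q ^ (2 * m + 1) * q = q ^ (2 * m + 2) := (pow_succ _ _).symm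
      have h12 : q ^ (2 * m + 2) ≤ q ^ (2 * (d - 1)) := Nat.pow_le_pow_right (by omega) (by omega)
      have h13 : 1 ≤ q ^ (2 * m + 1) := Nat.one_le_pow _ _ (by omega)
      omega
    omega

/-- **Singer elements.** -/
theorem gen_sing (hF : Fintype.card F = q ^ 2) (b : Module.Basis (Fin d) F K) (hd : 2 ≤ d)
    (h : Algebra.norm F z = 1) (hz : Algebra.adjoin F {z} = ⊤)
    (ho : Nat.card F ^ (d - 1) < orderOf z) : Gen hF (sing b z h) := by
  have : Module.Finite F K := Module.Finite.of_basis b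
  have hz0 : z ≠ 0 := by
    rintro rfl
    rw [Algebra.norm_eq_zero_iff.2 rfl] at h
    exact zero_ne_one h
  have hz1 : z ≠ 1 := by
    rintro rfl
    rw [orderOf_one] at ho
    have := Nat.one_le_pow (d - 1) (Nat.card F) Nat.card_pos
    omega
  exact gen_of_ne hF b h hz hz0 hz1 (aeval_ne_zero hF b hd hz0 ho)

end

end Cfsg.Agent.H779.DP
end

-- part: H779/DP/UNum
section
/-!
# Numerical inequalities (S2454, row PSU)
-/

set_option autoImplicit false

namespace Cfsg.Agent.H779.DP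

theorem succ_dvd_even {q k : ℕ} (hq : 1 ≤ q) : q + 1 ∣ q ^ (2 * k) - 1 := by
  have h1 : q ^ 2 - 1 ∣ (q ^ 2) ^ k - 1 := by
    simpa only [_root_.one_pow] using Nat.sub_dvd_pow_sub_pow (q ^ 2) 1 k
  have h2 : q ^ 2 - 1 = (q + 1) * (q - 1) := by
    have := Nat.sq_sub_sq q 1
    rwa [one_pow] at this
  rw [pow_mul]
  exact (Dvd.intro _ h2.symm).trans h1

/-- `n` even -/
theorem deg_even {q n : ℕ} (hq : 2 ≤ q) (hn : Even n) : (q ^ n - 1) / (q + 1) * (q + 1) = q ^ n - 1 := by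
  obtain ⟨k, rfl⟩ := hn
  rw [← two_mul]
  exact Nat.div_mul_cancel (succ_dvd_even (by omega))

/-- `n` odd -/
theorem deg_odd {q n : ℕ} (hq : 2 ≤ q) (hn : Odd n) : (q ^ n - q) / (q + 1) * (q + 1) = q ^ n - q := by
  obtain ⟨k, rfl⟩ := hn
  apply Nat.div_mul_cancel
  have h1 : q ^ (2 * k + 1) - q = (q ^ (2 * k) - 1) * q := by rw [Nat.sub_mul, one_mul, pow_succ]
  rw [h1]
  exact (succ_dvd_even (by omega)).mul_right _

theorem le_two_mul_of {q m D X : ℕ} (h : D * (q + 1) = X) (h2 : q ^ m * (q + 1) ≤ 2 * X) : q ^ m ≤ 2 * D := by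
  rw [← h, ← mul_assoc] at h2
  exact Nat.le_of_mul_le_mul_right h2 (by omega)

theorem le_deg_even {q m : ℕ} (hq : 2 ≤ q) (hm : 1 ≤ m) (hn : Even (m + 1)) :
    q ^ m ≤ 2 * ((q ^ (m + 1) - 1) / (q + 1)) := by
  refine le_two_mul_of (deg_even hq hn) ?_
  have h1 : 2 ≤ q ^ m := hq.trans (Nat.le_self_pow (by omega) q)
  have h2 : q ^ m * 2 ≤ q ^ m * q := Nat.mul_le_mul_left _ hq
  have h3 : q ^ (m + 1) = q ^ m * q := pow_succ _ _
  have h4 : q ^ m * (q + 1) = q ^ m * q + q ^ m := by ring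
  omega

theorem le_deg_odd {q m : ℕ} (hq : 2 ≤ q) (hm : 2 ≤ m) (hn : Odd (m + 1)) :
    q ^ m ≤ 2 * ((q ^ (m + 1) - q) / (q + 1)) := by
  refine le_two_mul_of (deg_odd hq hn) ?_
  have h1 : q * q ≤ q ^ m := by
    rw [← pow_two]
    exact Nat.pow_le_pow_right (by omega) hm
  have h2 : q ^ m * 2 ≤ q ^ m * q := Nat.mul_le_mul_left _ hq
  have h3 : q ^ (m + 1) = q ^ m * q := pow_succ _ _
  have h4 : q ^ m * (q + 1) = q ^ m * q + q ^ m := by ring
  have h5 : 2 * q ≤ q * q := Nat.mul_le_mul_right _ hq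
  omega

theorem lt_pow_36 {q m s D : ℕ} (h : q ^ m ≤ 2 * D) (h2 : 2 ^ 36 * q ^ s < q ^ (36 * m)) : q ^ s < D ^ 36 := by
  have h3 : q ^ (36 * m) ≤ 2 ^ 36 * D ^ 36 := by
    rw [mul_comm 36 m, pow_mul, ← mul_pow]
    exact Nat.pow_le_pow_left h 36
  exact Nat.lt_of_mul_lt_mul_left (h2.trans_le h3)

theorem lt_pow_36_two {q m s D : ℕ} (hq : 2 ≤ q) (h : q ^ m ≤ 2 * D) (h2 : s + 36 < 36 * m) : q ^ s < D ^ 36 := by
  refine lt_pow_36 h ?_
  calc 2 ^ 36 * q ^ s ≤ q ^ 36 * q ^ s := Nat.mul_le_mul_right _ (Nat.pow_le_pow_left hq 36)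
    _ = q ^ (s + 36) := by rw [← pow_add, add_comm]
    _ < q ^ (36 * m) := Nat.pow_lt_pow_right (by omega) h2

theorem lt_pow_36_three {q m s D : ℕ} (hq : 3 ≤ q) (h : q ^ m ≤ 2 * D) (h2 : s + 23 < 36 * m) : q ^ s < D ^ 36 := by
  refine lt_pow_36 h ?_
  calc 2 ^ 36 * q ^ s ≤ 3 ^ 23 * q ^ s := Nat.mul_le_mul_right _ (by norm_num)
    _ ≤ q ^ 23 * q ^ s := Nat.mul_le_mul_right _ (Nat.pow_le_pow_left hq 23)
    _ = q ^ (s + 23) := by rw [← pow_add, add_comm]
    _ < q ^ (36 * m) := Nat.pow_lt_pow_right (by omega) h2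

/-- `d = 2` -/
theorem num_two {q : ℕ} (hq : 2 ≤ q) : (q ^ (2 * 2) - 1 - 1) ^ 20 < ((q ^ (2 * 2) - 1) / (q + 1)) ^ (2 * 20 - 4) := by
  rcases Nat.eq_or_lt_of_le hq with rfl | h3
  · norm_num
  · have h1 := le_deg_even (m := 3) hq (by norm_num) (by decide)
    have h2 := lt_pow_36_three (s := 80) h3 h1 (by norm_num)
    calc (q ^ (2 * 2) - 1 - 1) ^ 20 ≤ (q ^ 4) ^ 20 := Nat.pow_le_pow_left (by norm_num only [_root_.tsub_le_iff_right]; omega) 20
      _ = q ^ 80 := by rw [← pow_mul]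
      _ < _ := h2

/-- `d ≥ 3` -/
theorem num_three {q d : ℕ} (hq : 2 ≤ q) (hd : 3 ≤ d) :
    (q ^ (2 * d) - 1 - 1) ^ 7 < ((q ^ (2 * d) - 1) / (q + 1)) ^ (2 * 7 - 4) := by
  have h1 := deg_even hq (even_two_mul d)
  obtain ⟨D, hD⟩ : ∃ D, D = (q ^ (2 * d) - 1) / (q + 1) := ⟨_, rfl⟩
  rw [← hD] at h1 ⊢
  obtain ⟨X, hX⟩ : ∃ X, X = q ^ (2 * d) - 1 := ⟨_, rfl⟩
  rw [← hX] at h1 ⊢
  have hN : q ^ 6 ≤ q ^ (2 * d) := Nat.pow_le_pow_right (by omega) (by omega)
  have h64 : 64 ≤ q ^ 6 := by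
    calc 64 = 2 ^ 6 := by norm_num
      _ ≤ q ^ 6 := Nat.pow_le_pow_left hq 6
  have hX2 : q ^ 6 - 1 ≤ X := by omega
  -- `(q + 1) ^ 10 < X ^ 3`
  have k1 : (2 * (q + 1)) ^ 10 ≤ (3 * q) ^ 10 := Nat.pow_le_pow_left (by omega) 10
  have k2 : (63 * q ^ 6) ^ 3 ≤ (64 * X) ^ 3 := Nat.pow_le_pow_left (by omega) 3
  have k3 : (q + 1) ^ 10 < X ^ 3 := by
    have h8 : 2 ^ 8 ≤ q ^ 8 := Nat.pow_le_pow_left hq 8
    have e1 : (2 * (q + 1)) ^ 10 = 1024 * (q + 1) ^ 10 := by rw [mul_pow]; norm_num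
    have e2 : (3 * q) ^ 10 = 59049 * q ^ 10 := by rw [mul_pow]; norm_num
    have e3 : (63 * q ^ 6) ^ 3 = 250047 * (q ^ 10 * q ^ 8) := by rw [mul_pow, ← pow_mul, ← pow_add]; norm_num
    have e4 : (64 * X) ^ 3 = 262144 * X ^ 3 := by rw [mul_pow]; norm_num
    rw [e1, e2] at k1
    rw [e3, e4] at k2
    have k4 : q ^ 10 * 2 ^ 8 ≤ q ^ 10 * q ^ 8 := Nat.mul_le_mul_left _ h8
    have k5 : 0 < q ^ 10 := by positivity
    norm_num only [] at k4
    omega
  have hX0 : 0 < X := by omega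
  have k6 : (q + 1) ^ 10 * (X - 1) ^ 7 < (q + 1) ^ 10 * D ^ 10 := by
    have e5 : (q + 1) ^ 10 * D ^ 10 = X ^ 3 * X ^ 7 := by
      rw [← mul_pow, mul_comm (q + 1) D, h1, ← pow_add]
    rw [e5]
    calc (q + 1) ^ 10 * (X - 1) ^ 7 ≤ (q + 1) ^ 10 * X ^ 7 := Nat.mul_le_mul_left _ (Nat.pow_le_pow_left (by omega) 7)
      _ < X ^ 3 * X ^ 7 := Nat.mul_lt_mul_of_pos_right k3 (by positivity)
  exact Nat.lt_of_mul_lt_mul_left k6

/-- `j = n`, `n` odd -/
theorem num_odd {q n : ℕ} (hq : 2 ≤ q) (hn : 5 ≤ n) (ho : Odd n) :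
    (q ^ n) ^ 20 < ((q ^ n - q) / (q + 1)) ^ (2 * 20 - 4) := by
  obtain ⟨m, rfl⟩ : ∃ m, n = m + 1 := ⟨n - 1, by omega⟩
  rw [← pow_mul]
  exact lt_pow_36_two hq (le_deg_odd hq (by omega) ho) (by omega)

/-- `j = n - 1`, `n` even -/
theorem num_even {q n : ℕ} (hq : 2 ≤ q) (hn : 4 ≤ n) (he : Even n) :
    (q ^ (n - 1)) ^ 20 < ((q ^ n - 1) / (q + 1)) ^ (2 * 20 - 4) := by
  obtain ⟨m, rfl⟩ : ∃ m, n = m + 1 := ⟨n - 1, by omega⟩
  rw [← pow_mul, Nat.add_sub_cancel]
  exact lt_pow_36_two hq (le_deg_even hq (by omega) he) (by omega)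

/-- `j = n - 1`, `n ≥ 6` even -/
theorem num_even' {q n : ℕ} (hq : 2 ≤ q) (hn : 6 ≤ n) (he : Even n) :
    (q ^ (n - 1)) ^ 5 < ((q ^ n - 1) / (q + 1)) ^ (2 * 5 - 4) := by
  have h1 := deg_even hq he
  obtain ⟨D, hD⟩ : ∃ D, D = (q ^ n - 1) / (q + 1) := ⟨_, rfl⟩
  rw [← hD] at h1 ⊢
  obtain ⟨m, rfl⟩ : ∃ m, n = m + 1 := ⟨n - 1, by omega⟩
  rw [Nat.add_sub_cancel]
  have h2 : q ^ (m + 1) = q ^ m * q := pow_succ _ _
  have h3 : 2 ^ 5 ≤ q ^ m := (Nat.pow_le_pow_left hq 5).trans (Nat.pow_le_pow_right (by omega) (by omega))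
  have h4 : q ^ m * 2 ≤ q ^ m * q := Nat.mul_le_mul_left _ hq
  -- `(q + 1) ^ 6 (q ^ m) ^ 5 < (q ^ (m + 1) - 1) ^ 6`
  have k1 : (2 * (q + 1)) ^ 6 ≤ (3 * q) ^ 6 := Nat.pow_le_pow_left (by omega) 6
  have k2 : (63 * (q ^ m * q)) ^ 6 ≤ (64 * (q ^ (m + 1) - 1)) ^ 6 := Nat.pow_le_pow_left (by omega) 6
  have e1 : (2 * (q + 1)) ^ 6 = 64 * (q + 1) ^ 6 := by rw [mul_pow]; norm_num
  have e2 : (3 * q) ^ 6 = 729 * q ^ 6 := by rw [mul_pow]; norm_num
  have e3 : (63 * (q ^ m * q)) ^ 6 = 62523502209 * ((q ^ m) ^ 6 * q ^ 6) := by rw [mul_pow, mul_pow]; norm_num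
  have e4 : (64 * (q ^ (m + 1) - 1)) ^ 6 = 68719476736 * (q ^ (m + 1) - 1) ^ 6 := by rw [mul_pow]; norm_num
  rw [e1, e2] at k1
  rw [e3, e4] at k2
  have k3 : (q + 1) ^ 6 * (q ^ m) ^ 5 < (q ^ (m + 1) - 1) ^ 6 := by
    have k4 : 64 * ((q + 1) ^ 6 * (q ^ m) ^ 5) ≤ 729 * (q ^ 6 * (q ^ m) ^ 5) := by
      calc 64 * ((q + 1) ^ 6 * (q ^ m) ^ 5) = (64 * (q + 1) ^ 6) * (q ^ m) ^ 5 := by ring
        _ ≤ (729 * q ^ 6) * (q ^ m) ^ 5 := Nat.mul_le_mul_right _ k1
        _ = _ := by ring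
    have k5 : (q ^ m) ^ 6 * q ^ 6 = (q ^ 6 * (q ^ m) ^ 5) * q ^ m := by ring
    have k6 : (q ^ 6 * (q ^ m) ^ 5) * 2 ^ 5 ≤ (q ^ 6 * (q ^ m) ^ 5) * q ^ m := Nat.mul_le_mul_left _ h3
    have k7 : 0 < q ^ 6 * (q ^ m) ^ 5 := by positivity
    rw [k5] at k2
    norm_num only [] at k6
    omega
  rw [← h1, mul_pow, mul_comm (D ^ 6)] at k3
  exact Nat.lt_of_mul_lt_mul_left k3

/-- `SU_5`, `j = 3` -/
theorem num_five {q : ℕ} (hq : 3 ≤ q) : (q ^ 6) ^ 20 < ((q ^ 5 - q) / (q + 1)) ^ (2 * 20 - 4) := by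
  rw [← pow_mul]
  exact lt_pow_36_three hq (le_deg_odd (m := 4) (by omega) (by norm_num) (by decide)) (by norm_num)

end Cfsg.Agent.H779.DP
end

-- part: H779/DP/UCls
section
/-!
# `k(PSU_4(2)), k(PSU_4(3)) ≤ 71` (S2454, row PSU)

From `Cfsg.Agent.H152.card_classes_mul_le`: `k(SU_4(3)) ≤ 71`, `k(SU_4(2)) ≤ 20`.
-/

set_option autoImplicit false

namespace Cfsg.Agent.H779.DP

open Cfsg Cfsg.Agent.H152 Finset

theorem card_roots {K : Type*} [Field K] [Fintype K] {q : ℕ} (hK : Fintype.card K = q ^ 2) (hq : 2 ≤ q) :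
    Nat.card (rootsOfUnity (q + 1) K) = q + 1 := by
  classical
  obtain ⟨g, hg⟩ := IsCyclic.exists_generator (α := Kˣ)
  have h1 : orderOf g = (q + 1) * (q - 1) := by
    rw [orderOf_eq_card_of_forall_mem_zpowers hg, Nat.card_eq_fintype_card, Fintype.card_units, hK]
    obtain ⟨t, rfl⟩ : ∃ t, q = t + 1 := ⟨q - 1, by omega⟩
    rw [Nat.add_sub_cancel]
    have : (t + 1) ^ 2 = (t + 1 + 1) * t + 1 := by ring
    omega
  have h2 : orderOf (g ^ (q - 1)) = q + 1 := by
    rw [orderOf_pow' g (by omega), h1, Nat.gcd_eq_right (Nat.dvd_mul_left _ _)]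
    exact Nat.mul_div_cancel _ (by omega)
  have h3 : IsPrimitiveRoot (g ^ (q - 1)) (q + 1) := by
    have := IsPrimitiveRoot.orderOf (g ^ (q - 1))
    rwa [h2] at this
  have h4 : IsPrimitiveRoot ((g ^ (q - 1) : Kˣ) : K) (q + 1) := IsPrimitiveRoot.coe_units_iff.mpr h3
  exact h4.card_rootsOfUnity

theorem kc_quot {G : Type*} [Group G] [Finite G] (N : Subgroup G) [N.Normal] :
    Nat.card (ConjClasses (G ⧸ N)) ≤ Nat.card (ConjClasses G) := by
  refine Nat.card_le_card_of_surjective (ConjClasses.map (QuotientGroup.mk' N)) ?_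
  exact ConjClasses.map_surjective (QuotientGroup.mk'_surjective N)

/-- `k(SU_4(3)) ≤ 71` -/
theorem card_classes_SU43 {K : Type*} [Field K] [Fintype K] (hK : Fintype.card K = 3 ^ 2) :
    Nat.card (ConjClasses (SU 4 K 3)) ≤ 71 := by
  classical
  have hc := card_roots hK (by norm_num)
  have hc' : Fintype.card (rootsOfUnity (3 + 1) K) = 4 := by rw [← Nat.card_eq_fintype_card, hc]
  have h1 := card_classes_mul_le hK 4
  rw [hc] at h1
  let C := rootsOfUnity (3 + 1) K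
  have hS : (Finset.univ.filter fun a : C => a ^ 2 = 1).card ≤ 2 := IsCyclic.card_pow_eq_one_le (by norm_num)
  have key : ∀ p : C × C, (if Nat.lcm (orderOf p.1) (orderOf p.2) ∣ 4 then
      Model.K (Model.w (3 + 1) 3) (4 / Nat.lcm (orderOf p.1) (orderOf p.2))
        (4 / Nat.lcm (orderOf p.1) (orderOf p.2)) else 0) ≤
      (4 + (if p ∈ (Finset.univ.filter fun a : C => a ^ 2 = 1) ×ˢ (Finset.univ.filter fun a : C => a ^ 2 = 1) then 12
        else 0)) + (if p = 1 then 172 else 0) := by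
    intro p
    have hL : Nat.lcm (orderOf p.1) (orderOf p.2) ∣ 4 := by
      refine Nat.lcm_dvd ?_ ?_
      · rw [← hc']; exact orderOf_dvd_card
      · rw [← hc']; exact orderOf_dvd_card
    rw [if_pos hL]
    have h1L := Nat.dvd_lcm_left (orderOf p.1) (orderOf p.2)
    have h2L := Nat.dvd_lcm_right (orderOf p.1) (orderOf p.2)
    obtain ⟨L, hLe⟩ : ∃ L, L = Nat.lcm (orderOf p.1) (orderOf p.2) := ⟨_, rfl⟩
    rw [← hLe] at hL h1L h2L ⊢
    have hL4 : L ≤ 4 := Nat.le_of_dvd (by norm_num) hL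
    have hmem : ∀ k, L ∣ k → p.1 ^ k = 1 ∧ p.2 ^ k = 1 := fun k hk =>
      ⟨orderOf_dvd_iff_pow_eq_one.1 (h1L.trans hk), orderOf_dvd_iff_pow_eq_one.1 (h2L.trans hk)⟩
    interval_cases L
    · norm_num at hL
    · have h3 := hmem 1 (dvd_refl 1)
      rw [pow_one, pow_one] at h3
      have h4 : p = 1 := Prod.ext h3.1 h3.2
      rw [if_pos h4, if_pos (by
        rw [h4, Finset.mem_product, Finset.mem_filter, Finset.mem_filter]
        simp only [_root_.Prod.fst_one, _root_.Finset.mem_univ, _root_.one_pow, _root_.and_self, _root_.Prod.snd_one])]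
      decide
    · have h3 := hmem 2 (dvd_refl 2)
      rw [if_pos (by
        rw [Finset.mem_product, Finset.mem_filter, Finset.mem_filter]
        exact ⟨⟨Finset.mem_univ _, h3.1⟩, Finset.mem_univ _, h3.2⟩)]
      have : Model.K (Model.w (3 + 1) 3) (4 / 2) (4 / 2) = 16 := by decide
      omega
    · norm_num at hL
    · have : Model.K (Model.w (3 + 1) 3) (4 / 4) (4 / 4) = 4 := by decide
      omega
  have h2 : Nat.card (ConjClasses (SU 4 K 3)) * (3 + 1) ≤ 284 := by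
    refine h1.trans ((Finset.sum_le_sum fun p _ => key p).trans ?_)
    rw [Finset.sum_add_distrib, Finset.sum_add_distrib, Finset.sum_const, Finset.card_univ, Fintype.card_prod]
    rw [Finset.sum_ite_mem, Finset.univ_inter, Finset.sum_const, Finset.card_product, Finset.sum_ite_eq',
      if_pos (Finset.mem_univ _)]
    have h5 : (Finset.univ.filter fun a : C => a ^ 2 = 1).card * (Finset.univ.filter fun a : C => a ^ 2 = 1).card ≤ 2 * 2 :=
      Nat.mul_le_mul hS hS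
    have h6 : Fintype.card C = 4 := hc'
    rw [h6]
    simp only [smul_eq_mul]
    omega
  omega

/-- `k(SU_4(2)) ≤ 20` -/
theorem card_classes_SU42 {K : Type*} [Field K] [Fintype K] (hK : Fintype.card K = 2 ^ 2) :
    Nat.card (ConjClasses (SU 4 K 2)) ≤ 20 := by
  classical
  have hc := card_roots hK (by norm_num)
  have hc' : Fintype.card (rootsOfUnity (2 + 1) K) = 3 := by rw [← Nat.card_eq_fintype_card, hc]
  have h1 := card_classes_mul_le hK 4
  rw [hc] at h1
  let C := rootsOfUnity (2 + 1) K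
  have key : ∀ p : C × C, (if Nat.lcm (orderOf p.1) (orderOf p.2) ∣ 4 then
      Model.K (Model.w (2 + 1) 2) (4 / Nat.lcm (orderOf p.1) (orderOf p.2))
        (4 / Nat.lcm (orderOf p.1) (orderOf p.2)) else 0) ≤ (if p = 1 then 60 else 0) := by
    intro p
    have hL : Nat.lcm (orderOf p.1) (orderOf p.2) ∣ 3 := by
      refine Nat.lcm_dvd ?_ ?_
      · rw [← hc']; exact orderOf_dvd_card
      · rw [← hc']; exact orderOf_dvd_card
    have h1L := Nat.dvd_lcm_left (orderOf p.1) (orderOf p.2)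
    have h2L := Nat.dvd_lcm_right (orderOf p.1) (orderOf p.2)
    obtain ⟨L, hLe⟩ : ∃ L, L = Nat.lcm (orderOf p.1) (orderOf p.2) := ⟨_, rfl⟩
    rw [← hLe] at hL h1L h2L ⊢
    rcases (Nat.dvd_prime Nat.prime_three).1 hL with rfl | rfl
    · have h4 : p = 1 := Prod.ext (orderOf_eq_one_iff.1 (Nat.dvd_one.1 h1L)) (orderOf_eq_one_iff.1 (Nat.dvd_one.1 h2L))
      rw [if_pos h4, if_pos (by norm_num)]
      decide
    · rw [if_neg (by norm_num)]
      exact Nat.zero_le _
  have h2 : Nat.card (ConjClasses (SU 4 K 2)) * (2 + 1) ≤ 60 := by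
    refine h1.trans ((Finset.sum_le_sum fun p _ => key p).trans ?_)
    rw [Finset.sum_ite_eq', if_pos (Finset.mem_univ _)]
  omega

open Cfsg.Agent.H514.DP in
/-- `PSU_4(2)`, `PSU_4(3)`. -/
theorem pw_psu_four {S : Type*} [Group S] [Finite S] [IsSimpleGroup S] {K : Type*} [Field K] [Fintype K] {q : ℕ}
    (hK : Fintype.card K = q ^ 2) (hq : q = 2 ∨ q = 3) (e : S ≃* PSU 4 K q) {p : ℕ} (hp : p.Prime)
    (hd : p ∣ Nat.card S) : PW p 70 S := by
  apply PW.of_classes hp hd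
  have h0 : Nat.card (ConjClasses S) = Nat.card (ConjClasses (PSU 4 K q)) := by
    apply le_antisymm
    · exact Nat.card_le_card_of_surjective (ConjClasses.map e.symm.toMonoidHom) (ConjClasses.map_surjective e.symm.surjective)
    · have : Finite (PSU 4 K q) := Finite.of_equiv S e.toEquiv
      exact Nat.card_le_card_of_surjective (ConjClasses.map e.toMonoidHom) (ConjClasses.map_surjective e.surjective)
  rw [h0]
  refine (kc_quot (Subgroup.center (SU 4 K q))).trans ?_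
  rcases hq with rfl | rfl
  · exact (card_classes_SU42 hK).trans (by norm_num)
  · exact card_classes_SU43 hK

end Cfsg.Agent.H779.DP
end

-- part: H779/DP/PSU
section
/-!
# `PSU_n(q)`, `n ≥ 4`, is a product of seventy `p`-elements (S2454)

* `pw_SU` : `SU_n(q)`, `n ≥ 4`, not `(4, 2)`, `(4, 3)`;
* `pw_psu` : the row `PSU`, `n ≥ 4`.
-/

set_option autoImplicit false
set_option linter.unusedSectionVars false

namespace Cfsg.Agent.H779.DP

open Cfsg Module Matrix Cfsg.Agent.LieClassical.HermBasic Cfsg.Agent.LieClassical.HermSiegel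
open Cfsg.Agent.H514.DP Cfsg.Agent.H948.UProd
open Cfsg.Agent.KFacts.Unit (Frm)

theorem MinDeg.anti {G : Type*} [Group G] {a b : ℕ} (h : MinDeg G a) (hab : b ≤ a) : MinDeg G b :=
  fun k ρ hρ hk => hab.trans (h k ρ hρ hk)

variable {F : Type*} [Field F] [Fintype F] {q n d : ℕ}

theorem minDeg_even (hF : Fintype.card F = q ^ 2) (hn : 4 ≤ n) (he : Even n)
    (hex : (n, q) ≠ (4, 2) ∧ (n, q) ≠ (4, 3)) : MinDeg (SU n F q) ((q ^ n - 1) / (q + 1)) := by
  classical
  exact S2335.result n q hn he hF hex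

theorem minDeg_odd (hF : Fintype.card F = q ^ 2) (hn : 5 ≤ n) (ho : Odd n) :
    MinDeg (SU n F q) ((q ^ n - q) / (q + 1)) := by
  classical
  refine S2334.result n q (by omega) ho hF ?_
  intro h
  rw [Prod.mk.injEq] at h
  omega

/-- the common bound -/
theorem minDeg_common (hF : Fintype.card F = q ^ 2) (hd : 2 ≤ d) (hn : n = 2 * d ∨ n = 2 * d + 1)
    (hex : (n, q) ≠ (4, 2) ∧ (n, q) ≠ (4, 3)) : MinDeg (SU n F q) ((q ^ (2 * d) - 1) / (q + 1)) := by
  rcases hn with rfl | rfl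
  · exact minDeg_even hF (by omega) (even_two_mul d) hex
  · refine MinDeg.anti (minDeg_odd hF (by omega) ⟨d, rfl⟩) (Nat.div_le_div_right ?_)
    have h1 : 1 ≤ q ^ (2 * d) := Nat.one_le_pow _ _ (q_pos hF)
    have h2 : 1 ≤ q := q_pos hF
    have h3 : q ^ (2 * d + 1) - q = (q ^ (2 * d) - 1) * q := by rw [Nat.sub_mul, one_mul, pow_succ]
    rw [h3]
    exact Nat.le_mul_of_pos_right _ h2

theorem perfect_SU' (hF : Fintype.card F = q ^ 2) (hn : 4 ≤ n) : commutator (SU n F q) = ⊤ :=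
  Cfsg.Agent.LieClassical.HermPerfect.commutator_SU_eq_top hF (by omega) (by omega)

theorem exists_frm (hF : Fintype.card F = q ^ 2) (hn : 2 * d ≤ n) :
    ∃ e f : Fin d → (Fin n → F), Frm q e f := by
  obtain ⟨W, -, -⟩ := Cfsg.Agent.TitsThree.UFrame.exists_frame hF hn
  exact ⟨W.e, W.f, W.ee, W.ff, W.ef⟩

/-- The Singer element is a companion matrix in a suitable basis. -/
theorem exists_comp_singer (F : Type*) [Field F] [Finite F] (hd : 2 ≤ d) :
    ∃ (K : Type) (_ : Field K) (_ : Algebra F K) (b : Module.Basis (Fin d) F K) (z : K) (h : Algebra.norm F z = 1)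
      (c : ℕ → F) (hc : (_root_.Cfsg.Agent.H514.DP.comp d c).det = 1), Algebra.adjoin F {z} = ⊤ ∧
      orderOf z = (Nat.card F ^ d - 1) / (Nat.card F - 1) ∧ sing b z h = compSL d c hc := by
  obtain ⟨K, _, _, ⟨b0⟩⟩ := exists_ext (F := F) (n := d) (by omega)
  obtain ⟨z, hz1, hz2, hz3⟩ := exists_singer_norm_one b0 hd
  have : Module.Finite F K := Module.Finite.of_basis b0
  have hint : IsIntegral F z := Algebra.IsIntegral.isIntegral z
  let pb : PowerBasis F K := PowerBasis.ofAdjoinEqTop hint hz3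
  have hdim : pb.dim = d := by
    rw [← pb.finrank, Module.finrank_eq_card_basis b0, Fintype.card_fin]
  have hgen : pb.gen = z := rfl
  let b : Module.Basis (Fin d) F K := pb.basis.reindex (finCongr hdim)
  have hmat : Algebra.leftMulMatrix b z = _root_.Cfsg.Agent.H514.DP.comp d fun i => -pb.minpolyGen.coeff i := by
    ext i j
    have h1 := congrFun (congrFun pb.leftMulMatrix ((finCongr hdim).symm i)) ((finCongr hdim).symm j)
    rw [hgen, of_apply] at h1
    have h2 : Algebra.leftMulMatrix b z i j =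
        Algebra.leftMulMatrix pb.basis z ((finCongr hdim).symm i) ((finCongr hdim).symm j) := by
      rw [Algebra.leftMulMatrix_apply, Algebra.leftMulMatrix_apply, LinearMap.toMatrix_apply, LinearMap.toMatrix_apply,
        Module.Basis.repr_reindex_apply, Module.Basis.reindex_apply]
    rw [h2, h1, Cfsg.Agent.H514.DP.comp_apply]
    simp [hdim]
  have hc : (_root_.Cfsg.Agent.H514.DP.comp d fun i => -pb.minpolyGen.coeff i).det = 1 := by
    rw [← hmat, ← Algebra.norm_eq_matrix_det, hz1]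
  exact ⟨K, _, _, b, z, hz1, fun i => -pb.minpolyGen.coeff i, hc, hz3, hz2, Subtype.ext hmat⟩

/-- **Singer elements of the Siegel Levi subgroup.** -/
theorem pw_of_lev (hF : Fintype.card F = q ^ 2) (hd : 2 ≤ d) (hn : n = 2 * d ∨ n = 2 * d + 1)
    (hex : (n, q) ≠ (4, 2) ∧ (n, q) ≠ (4, 3)) {p m k : ℕ} (hk : 3 ≤ k)
    (hnum : (q ^ (2 * d) - 1 - 1) ^ k < ((q ^ (2 * d) - 1) / (q + 1)) ^ (2 * k - 4))
    (hy : ∀ (e f : Fin d → (Fin n → F)) (E : Frm q e f) (c : ℕ → F) (hc : (_root_.Cfsg.Agent.H514.DP.comp d c).det = 1),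
      PE p m (lev hF E (compSL d c hc))) : PW p (m * k) (SU n F q) := by
  obtain ⟨e, f, E⟩ := exists_frm (F := F) (n := n) (d := d) hF (by omega)
  obtain ⟨K, _, _, b, z, hz, c, hc, hz3, hz2, hs⟩ := exists_comp_singer (d := d) F hd
  have hcF : Nat.card F = q ^ 2 := by rw [Nat.card_eq_fintype_card, hF]
  have hq := two_le hF
  have hQ : 1 < Nat.card F := Finite.one_lt_card
  have hord : Nat.card F ^ (d - 1) < orderOf z := by
    rw [hz2, Nat.lt_iff_add_one_le, Nat.le_div_iff_mul_le (by omega)]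
    obtain ⟨t, rfl⟩ : ∃ t, d = t + 2 := ⟨d - 2, by omega⟩
    have h1 : t + 2 - 1 = t + 1 := by omega
    rw [h1]
    obtain ⟨Q, hQe⟩ : ∃ Q, Nat.card F = Q + 1 := ⟨Nat.card F - 1, by omega⟩
    rw [hQe, Nat.add_sub_cancel]
    have h2 : (Q + 1) ^ (t + 2) = (Q + 1) ^ (t + 1) * Q + (Q + 1) ^ (t + 1) := by ring
    have h3 : (Q + 1) ^ 1 ≤ (Q + 1) ^ (t + 1) := Nat.pow_le_pow_right (by omega) (by omega)
    have h4 : ((Q + 1) ^ (t + 1) + 1) * Q = (Q + 1) ^ (t + 1) * Q + Q := by ring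
    rw [pow_one] at h3
    omega
  have hgen := gen_sing hF b hd hz hz3 hord
  have hC := card_centralizer_lev_le hF E hgen (by omega) (by omega)
  rw [hcF, ← pow_mul, hs] at hC
  exact PW.of_pe (perfect_SU' hF (by omega)) (hy e f E c hc) (minDeg_common hF hd hn hex) hk
    (lt_of_small (Nat.sub_le_sub_right hC 1) hnum)

/-- the prime divisors of `|SL_d(F)|` -/
theorem dvd_card_SL' {p i : ℕ} (hd : 2 ≤ d) (h : p ∣ Nat.card F ∨ (2 ≤ i ∧ i ≤ d ∧ p ∣ Nat.card F ^ i - 1)) :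
    p ∣ Nat.card (_root_.Matrix.SpecialLinearGroup (Fin d) F) := by
  classical
  have hQ : 1 < Nat.card F := Finite.one_lt_card
  obtain ⟨m, rfl⟩ : ∃ m, d = m + 1 := ⟨d - 1, by omega⟩
  have h1 := S0242.result (F := F) Nat.card_eq_fintype_card.symm (m + 1) (by omega)
  rw [Fin.prod_univ_castSucc] at h1
  have h2 : Nat.card F ^ (m + 1) - Nat.card F ^ ((Fin.last m : Fin (m + 1)) : ℕ) = (Nat.card F - 1) * Nat.card F ^ m := by
    rw [Fin.val_last, Nat.sub_mul, one_mul, pow_succ, mul_comm]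
  rw [h2] at h1
  have h3 : Nat.card (_root_.Matrix.SpecialLinearGroup (Fin (m + 1)) F) =
      (∏ i : Fin m, (Nat.card F ^ (m + 1) - Nat.card F ^ ((i.castSucc : Fin (m + 1)) : ℕ))) * Nat.card F ^ m := by
    apply Nat.eq_of_mul_eq_mul_left (show 0 < Nat.card F - 1 by omega)
    rw [h1]
    ring
  rw [h3]
  rcases h with h | ⟨h4, h5, h6⟩
  · exact dvd_mul_of_dvd_right (h.trans (dvd_pow_self _ (by omega))) _
  · refine dvd_mul_of_dvd_left ?_ _
    refine dvd_trans ?_ (Finset.dvd_prod_of_mem _ (Finset.mem_univ (⟨m + 1 - i, by omega⟩ : Fin m)))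
    have h7 : Nat.card F ^ (m + 1) - Nat.card F ^ (((⟨m + 1 - i, by omega⟩ : Fin m).castSucc : Fin (m + 1)) : ℕ) =
        Nat.card F ^ (m + 1 - i) * (Nat.card F ^ i - 1) := by
      rw [Nat.mul_sub, mul_one, ← pow_add]
      congr 2
      omega
    rw [h7]
    exact h6.mul_left _

/-- `p` divides `q (q ^ 2 - 1) ... (q ^ (2 d) - 1)`. -/
theorem pw_A (hF : Fintype.card F = q ^ 2) (hd : 2 ≤ d) (hn : n = 2 * d ∨ n = 2 * d + 1)
    (hex : (n, q) ≠ (4, 2) ∧ (n, q) ≠ (4, 3)) {p : ℕ} (hp : p.Prime)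
    (h : p ∣ q ∨ ∃ i, 1 ≤ i ∧ i ≤ d ∧ p ∣ Nat.card F ^ i - 1) : PW p 70 (SU n F q) := by
  have hcF : Nat.card F = q ^ 2 := by rw [Nat.card_eq_fintype_card, hF]
  have hq := two_le hF
  have h' : p ∣ Nat.card F ∨ ∃ i, 2 ≤ i ∧ i ≤ d ∧ p ∣ Nat.card F ^ i - 1 := by
    rcases h with h | ⟨i, hi1, hid, hi⟩
    · left; rw [hcF]; exact h.trans (dvd_pow_self _ two_ne_zero)
    · right
      rcases Nat.eq_or_lt_of_le hi1 with rfl | hi2
      · refine ⟨2, le_rfl, hd, hi.trans ?_⟩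
        have := Nat.sub_dvd_pow_sub_pow (Nat.card F) 1 2
        simpa only [_root_.Nat.card_eq_fintype_card, _root_.pow_one, _root_.one_pow] using this
      · exact ⟨i, hi2, hid, hi⟩
  rcases Nat.eq_or_lt_of_le hd with rfl | hd3
  · -- `d = 2`
    have hd' : CharP F p ∨ (p ∣ Nat.card F ^ 2 - 1 ∧ 4 ≤ Nat.card F) := by
      rcases h' with h' | ⟨i, hi1, hid, hi⟩
      · left
        obtain ⟨r, hr⟩ := CharP.exists F
        have hrp : r.Prime := CharP.char_is_prime F r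
        obtain ⟨k, -, hk⟩ := FiniteField.card F r
        rw [Nat.card_eq_fintype_card, hk] at h'
        have h4 : p = r := (Nat.prime_dvd_prime_iff_eq hp hrp).1 (hp.dvd_of_dvd_pow h')
        rw [h4]; exact hr
      · right
        have : i = 2 := by omega
        subst this
        exact ⟨hi, by rw [hcF]; nlinarith only [hq]⟩
    refine (pw_of_lev (m := 3) hF le_rfl hn hex (by norm_num) (num_two hq) fun e f E c hc => ?_).mono (by norm_num)
    refine (pe_three_of_nonscalar hp hd' _ ?_).map _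
    intro a ha
    have h1 := congrFun (congrFun ha 1) 0
    change comp 2 c 1 0 = _ at h1
    rw [Cfsg.Agent.H514.DP.comp_apply, Matrix.smul_apply, one_apply_ne (by decide), smul_zero] at h1
    simp at h1
  · have hdv : p ∣ Nat.card (_root_.Matrix.SpecialLinearGroup (Fin d) F) := by
      rcases h' with h' | ⟨i, hi1, hid, hi⟩
      · exact dvd_card_SL' (i := 0) (by omega) (Or.inl h')
      · exact dvd_card_SL' (by omega) (Or.inr ⟨hi1, hid, hi⟩)
    exact pw_of_lev (m := 10) hF (by omega) hn hex (by norm_num) (num_three hq hd3)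
      fun e f E c hc => (pe_compSL hp (by omega) hdv c hc).map _

/-- elements of order `p` -/
theorem pw_of_prime (hF : Fintype.card F = q ^ 2) (hn : 4 ≤ n) {p j : ℕ} (hp : p.Prime) (hpF : (p : F) ≠ 0)
    (hj : orderOf ((Nat.card F : ℕ) : ZMod p) = j) (hodd : Odd j) (h1 : j ≤ n) (h2 : n < 2 * j)
    (hdv : p ∣ Nat.card (SU n F q)) {D k N m : ℕ} (hm : m + j = n) (hN : (q ^ j + 1) * Nat.card (SU m F q) ≤ N + 1)
    (hD : MinDeg (SU n F q) D) (hk : 3 ≤ k) (hb : N ^ k < D ^ (2 * k - 4)) : PW p k (SU n F q) := by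
  have : Fact p.Prime := ⟨hp⟩
  have : Finite (SU n F q) := inferInstance
  obtain ⟨x, hx⟩ := exists_prime_orderOf_dvd_card' p hdv
  have hxp : x ^ p = 1 := by rw [← hx, pow_orderOf_eq_one]
  have hx1 : x ≠ 1 := by
    rintro rfl
    rw [orderOf_one] at hx
    exact hp.one_lt.ne hx
  have hC := (card_centralizer_prime_le hF hp hpF hxp hx1 hj hodd h2 hm).trans hN
  have h3 := PW.of_pe (perfect_SU' hF hn) (IsPE.of_prime hx).pe hD hk
    (lt_of_small (show Nat.card (Subgroup.centralizer ({x} : Set (SU n F q))) - 1 ≤ N by omega) hb)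
  rwa [one_mul] at h3

/-- `p` divides `q ^ j + 1`, `j` odd, `j > d`. -/
theorem pw_B (hF : Fintype.card F = q ^ 2) (hd : 2 ≤ d) (hn : n = 2 * d ∨ n = 2 * d + 1)
    (hex : (n, q) ≠ (4, 2) ∧ (n, q) ≠ (4, 3)) {p j : ℕ} (hp : p.Prime) (hpF : (p : F) ≠ 0)
    (hj : orderOf ((Nat.card F : ℕ) : ZMod p) = j) (hodd : Odd j) (h1 : j ≤ n) (h2 : d < j) (h3 : p ∣ q ^ j + 1) :
    PW p 70 (SU n F q) := by
  have hcF : Nat.card F = q ^ 2 := by rw [Nat.card_eq_fintype_card, hF]
  have hq := two_le hF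
  have hj1 : 1 ≤ j := by omega
  have hph : p ∣ ph q (j - 1) := by
    have hev : Even (j - 1) := Nat.Odd.sub_odd hodd odd_one
    rw [ph, if_pos hev, Nat.sub_add_cancel hj1]
    exact h3
  have hdv : ∀ m, 2 ≤ m → j ≤ m → p ∣ Nat.card (SU m F q) := fun m hm hjm =>
    dvd_card_SU hF hm (by omega) hph
  have hc1 : ∀ m, m ≤ 1 → (q ^ j + 1) * Nat.card (SU m F q) ≤ q ^ j + 1 := by
    intro m hm
    calc (q ^ j + 1) * Nat.card (SU m F q) ≤ (q ^ j + 1) * 1 := Nat.mul_le_mul_left _ (card_SU_le_one hm)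
      _ = _ := mul_one _
  rcases Nat.eq_or_lt_of_le h1 with hjn | hjn
  · -- `j = n`
    have ho : Odd n := hjn ▸ hodd
    have hn5 : 5 ≤ n := by
      obtain ⟨t, ht⟩ := ho
      omega
    refine (pw_of_prime (m := 0) (N := q ^ n) hF (by omega) hp hpF hj hodd h1 (by omega) (hdv n (by omega) h1) (by omega) ?_
      (minDeg_odd hF hn5 ho) (by norm_num) (num_odd hq hn5 ho)).mono (by norm_num)
    rw [← hjn]
    exact hc1 0 (by norm_num)
  rcases Nat.eq_or_lt_of_le (Nat.succ_le_of_lt hjn) with hjn2 | hjn2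
  · -- `j = n - 1`
    have hjn3 : j = n - 1 := by omega
    have he : Even n := by
      obtain ⟨t, ht⟩ := hodd
      exact ⟨t + 1, by omega⟩
    refine (pw_of_prime (m := 1) (N := q ^ (n - 1)) hF (by omega) hp hpF hj hodd h1 (by omega) (hdv n (by omega) h1)
      (by omega) ?_ (minDeg_even hF (by omega) he hex) (by norm_num) (num_even hq (by omega) he)).mono (by norm_num)
    rw [← hjn3]
    exact hc1 1 le_rfl
  rcases Nat.eq_or_lt_of_le hd with rfl | hd3
  · -- `n = 5`, `j = 3`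
    have hn5 : n = 5 := by omega
    subst hn5
    have hj3 : j = 3 := by omega
    subst hj3
    have hq3 : 3 ≤ q := by
      by_contra hlt
      have hq2 : q = 2 := by omega
      subst hq2
      have h4 : p ∣ 3 ^ 2 := by norm_num at h3 ⊢; exact h3
      have h5 : p = 3 := (Nat.prime_dvd_prime_iff_eq hp Nat.prime_three).1 (hp.dvd_of_dvd_pow h4)
      subst h5
      rw [hcF, show (((2 : ℕ) ^ 2 : ℕ) : ZMod 3) = 1 by decide, orderOf_one] at hj
      omega
    refine (pw_of_prime (m := 2) (N := q ^ 6) hF (by omega) hp hpF hj hodd h1 (by omega) (hdv 5 (by omega) h1)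
      (by omega) ?_ (minDeg_odd hF le_rfl (by decide)) (by norm_num) (num_five hq3)).mono (by norm_num)
    rw [card_SU hF (by norm_num)]
    have h6 : (2 * (2 - 1) / 2 : ℕ) = 1 := by norm_num
    rw [h6, show (2 - 1 : ℕ) = 1 by norm_num, Finset.prod_range_one, ph, if_neg (by decide), pow_one]
    obtain ⟨t, rfl⟩ : ∃ t, q = t + 1 := ⟨q - 1, by omega⟩
    have h7 : (t + 1) ^ (0 + 1 + 1) - 1 = t * (t + 2) := by
      have : (t + 1) ^ (0 + 1 + 1) = t * (t + 2) + 1 := by ring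
      omega
    rw [h7]
    nlinarith only [_root_.sq_nonneg (↑t : ℤ), _root_.sq_nonneg (↑t + 1 : ℤ), _root_.Nat.cast_nonneg (α := ℤ) (t)]
  · -- windows
    obtain ⟨t, ht⟩ := hodd
    have hodd : Odd j := ⟨t, ht⟩
    have hPW : PW p 5 (SU (j + 1) F q) := by
      refine pw_of_prime (m := 1) (N := q ^ (j + 1 - 1)) hF (by omega) hp hpF hj hodd (by omega) (by omega)
        (hdv (j + 1) (by omega) (by omega)) (by omega) ?_
        (minDeg_even hF (by omega) ⟨t + 1, by omega⟩ ⟨?_, ?_⟩) (by norm_num)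
        (num_even' hq (by omega) ⟨t + 1, by omega⟩)
      · rw [Nat.add_sub_cancel]
        exact hc1 1 le_rfl
      · intro h; rw [Prod.mk.injEq] at h; omega
      · intro h; rw [Prod.mk.injEq] at h; omega
    exact pw_of_lev (m := 10) hF (by omega) hn hex (by norm_num) (num_three hq hd3)
      fun e f E c hc => pe_lev_comp hF E hPW (by omega) (by omega) (by omega) c hc

/-- the case split -/
theorem cases_p (hF : Fintype.card F = q ^ 2) (hd : 2 ≤ d) (hn : n = 2 * d ∨ n = 2 * d + 1) {p : ℕ} (hp : p.Prime)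
    (hdv : p ∣ Nat.card (PSU n F q)) :
    (p ∣ q ∨ ∃ i, 1 ≤ i ∧ i ≤ d ∧ p ∣ Nat.card F ^ i - 1) ∨
      ∃ j, Odd j ∧ d < j ∧ j ≤ n ∧ p ∣ q ^ j + 1 ∧ orderOf ((Nat.card F : ℕ) : ZMod p) = j := by
  have hcF : Nat.card F = q ^ 2 := by rw [Nat.card_eq_fintype_card, hF]
  have hq := two_le hF
  rcases prime_dvd_card_PSU hF (by omega) hp hdv with h | ⟨i, hi, h⟩
  · exact Or.inl (Or.inl h)
  unfold ph at h
  split_ifs at h with hev
  · -- `p ∣ q ^ (i + 1) + 1`, `i + 1` odd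
    obtain ⟨s, hs⟩ : ∃ s, s = i + 1 := ⟨_, rfl⟩
    rw [← hs] at h
    have hsodd : Odd s := by rw [hs]; exact hev.add_one
    have hs2 : p ∣ Nat.card F ^ s - 1 := by
      have h1 : Nat.card F ^ s - 1 = (q ^ s + 1) * (q ^ s - 1) := by
        have := Nat.sq_sub_sq (q ^ s) 1
        rw [one_pow] at this
        rw [← this, hcF, ← pow_mul, ← pow_mul, mul_comm]
      rw [h1]
      exact h.mul_right _
    by_cases hsd : s ≤ d
    · exact Or.inl (Or.inr ⟨s, by omega, hsd, hs2⟩)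
    have : Fact p.Prime := ⟨hp⟩
    have hdo : ∀ k, p ∣ Nat.card F ^ k - 1 ↔ orderOf ((Nat.card F : ℕ) : ZMod p) ∣ k := by
      intro k
      rw [orderOf_dvd_iff_pow_eq_one, ← ZMod.natCast_eq_zero_iff, Nat.cast_sub (Nat.one_le_pow _ _ Nat.card_pos),
        sub_eq_zero, Nat.cast_pow, Nat.cast_one]
    have ho := (hdo s).1 hs2
    obtain ⟨c, hc⟩ := ho
    obtain ⟨o, hoe⟩ : ∃ o, o = orderOf ((Nat.card F : ℕ) : ZMod p) := ⟨_, rfl⟩
    rw [← hoe] at hc
    rcases (by
      rcases c with _ | _ | _ | c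
      · exact Or.inl rfl
      · exact Or.inr (Or.inl rfl)
      · exact Or.inr (Or.inr (Or.inl rfl))
      · exact Or.inr (Or.inr (Or.inr (by omega))) : c = 0 ∨ c = 1 ∨ c = 2 ∨ 3 ≤ c) with rfl | rfl | rfl | hc3
    · omega
    · refine Or.inr ⟨s, hsodd, by omega, by omega, h, ?_⟩
      rw [← hoe]; omega
    · exfalso
      obtain ⟨t, ht⟩ := hsodd
      omega
    · left; right
      have h3 : o * 3 ≤ s := by rw [hc]; exact Nat.mul_le_mul_left _ hc3
      refine ⟨o, ?_, by omega, (hdo o).2 (by rw [hoe])⟩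
      rcases Nat.eq_zero_or_pos o with h0 | h0
      · rw [h0, zero_mul] at hc; omega
      · exact h0
  · -- `p ∣ q ^ (i + 1) - 1`, `i + 1` even
    obtain ⟨t, ht⟩ := Nat.not_even_iff_odd.1 hev
    left; right
    refine ⟨t + 1, by omega, by omega, ?_⟩
    have h1 : Nat.card F ^ (t + 1) = q ^ (i + 1) := by
      rw [hcF, ← pow_mul]
      congr 1
      omega
    rw [h1]
    exact h

/-- **`SU_n(q)`.** -/
theorem pw_SU (hF : Fintype.card F = q ^ 2) (hn : 4 ≤ n) (hex : (n, q) ≠ (4, 2) ∧ (n, q) ≠ (4, 3)) {p : ℕ}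
    (hp : p.Prime) (hdv : p ∣ Nat.card (PSU n F q)) : PW p 70 (SU n F q) := by
  obtain ⟨d, hd, hnd⟩ : ∃ d, 2 ≤ d ∧ (n = 2 * d ∨ n = 2 * d + 1) := ⟨n / 2, by omega, by omega⟩
  by_cases hpq : p ∣ q
  · exact pw_A hF hd hnd hex hp (Or.inl hpq)
  rcases cases_p hF hd hnd hp hdv with h | ⟨j, hodd, hdj, hjn, hj, ho⟩
  · exact pw_A hF hd hnd hex hp h
  · refine pw_B hF hd hnd hex hp ?_ ho hodd hjn hdj hj
    intro h0
    apply hpq
    obtain ⟨r, hr⟩ := CharP.exists F
    have hrp : r.Prime := CharP.char_is_prime F r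
    obtain ⟨k, -, hk⟩ := FiniteField.card F r
    have h1 : p = r := ((Nat.prime_dvd_prime_iff_eq hrp hp).1 ((CharP.cast_eq_zero_iff F r p).1 h0)).symm
    have h2 : r ∣ q ^ 2 := by rw [← hF, hk]; exact dvd_pow_self _ k.ne_zero
    rw [h1]
    exact hrp.dvd_of_dvd_pow h2

/-- **`PSU_n(q)`, `n ≥ 4`.** -/
theorem pw_PSU {S : Type*} [Group S] [Finite S] [IsSimpleGroup S] (hF : Fintype.card F = q ^ 2) (hn : 4 ≤ n)
    (e : S ≃* PSU n F q) {p : ℕ} (hp : p.Prime) (hdv : p ∣ Nat.card S) : PW p 70 S := by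
  by_cases h42 : n = 4 ∧ (q = 2 ∨ q = 3)
  · obtain ⟨rfl, hq⟩ := h42
    exact pw_psu_four hF hq e hp hdv
  · rw [Nat.card_congr e.toEquiv] at hdv
    refine PW.congr (PW.map (pw_SU hF hn ⟨?_, ?_⟩ hp hdv) (QuotientGroup.mk' _) (QuotientGroup.mk'_surjective _)) e.symm
    · intro h; rw [Prod.mk.injEq] at h; exact h42 ⟨h.1, Or.inl h.2⟩
    · intro h; rw [Prod.mk.injEq] at h; exact h42 ⟨h.1, Or.inr h.2⟩

/-- **The row `PSU`**, from the case `n = 3`. -/
theorem pw_psu_of {S : Type*} [Group S] [Finite S] [IsSimpleGroup S] {l : ℕ} (h : IsPSUChar l S) {p : ℕ} (hp : p.Prime)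
    (hdv : p ∣ Nat.card S)
    (h3 : ∀ (F : Type) [Field F] [Fintype F] (q : ℕ), Fintype.card F = q ^ 2 → q ≠ 2 → Nonempty (S ≃* PSU 3 F q) →
      PW p 70 S) : PW p 70 S := by
  obtain ⟨F, _, _, _, n, q, hF, hn, h32, ⟨e⟩⟩ := h
  rcases Nat.eq_or_lt_of_le hn with rfl | hn4
  · exact h3 F q hF (fun h => h32 ⟨rfl, h⟩) ⟨e⟩
  · exact pw_PSU hF hn4 e hp hdv

end Cfsg.Agent.H779.DP
end

private theorem dce_99ba636b821a : _root_.True := by
  try have : _root_.True := by simp only [_root_.Cfsg.Agent.H948.UProd.ph.eq_1]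
  exact _root_.True.intro
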